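-- The Sylow 2-subgroups of a simple group of order 4080.
--
-- * `sylow_two`: seventeen, elementary abelian, meeting trivially; `|C(t)| = 16` for involutions
-- * `isCyclic_of_card_fifteen`: subgroups of order 15 are cyclic
import Cfsg.Agent.Lib.SmallOrders.BlockDegrees.Orders
import Cfsg.Agent.Lib.SmallOrders.Tools
import Cfsg.Agent.Lib.SmallOrders.TwoPoint.SylowTI

set_option autoImplicit false

namespace Cfsg.Agent.SmallOrders.S4080

open Subgroup

variable {G : Type*} [Group G] [Finite G] [IsSimpleGroup G]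

theorem not_comm (h : Nat.card G = 4080) : ¬ IsMulCommutative G :=
  not_isMulCommutative_of_card (by rw [h]; norm_num)

theorem card_centralizer (h : Nat.card G = 4080) :
    (∀ y : G, orderOf y = 17 → Nat.card (centralizer ({y} : Set G)) = 17) ∧
      (∀ t u : G, orderOf t = 2 → orderOf u = 2 → IsConj t u) ∧
      (∀ t : G, orderOf t = 2 → Nat.card (centralizer ({t} : Set G)) = 16) := by
  have hG := not_comm h
  have : Fact (Nat.Prime 17) := ⟨by norm_num⟩
  have : Fact (Nat.Prime 2) := ⟨Nat.prime_two⟩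
  obtain ⟨x, X, Y, hx, hxC, hsol, hcls, hf⟩ :=
    BlockDegrees.exists_formula_of_blockBool hG h 17 64 120 (by norm_num) (by decide +kernel)
      (by norm_num) (by norm_num)
  obtain ⟨hmem, rfl⟩ := BlockDegrees.mem_xList (R := 64) (by norm_num) hsol
  rw [show BlockDegrees.xList 4080 17 64 = [-16] by decide +kernel, List.mem_singleton] at hmem
  subst hmem
  obtain ⟨t₀, ht₀, hT⟩ := BlockDegrees.card_sylow_dvd_centralizer (G := G) (p := 2) (by rw [h]; norm_num)
  have hconj : ∀ t u : G, orderOf t = 2 → orderOf u = 2 →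
      Nat.card (centralizer ({t} : Set G)) = Nat.card (centralizer ({u} : Set G)) := by
    intro t u ht hu
    have e1 := Char.card_conjugates_mul_card_centralizer t
    have e2 := Char.card_conjugates_mul_card_centralizer u
    rw [show {x : G | IsConj t x} = {x : G | IsConj u x} from
      Set.ext fun a => ⟨fun ha => (hcls u t hu ht).trans ha, fun ha => (hcls t u ht hu).trans ha⟩] at e1
    have : Nonempty {x : G | IsConj u x} := ⟨⟨u, IsConj.refl u⟩⟩
    exact Nat.eq_of_mul_eq_mul_left (Finite.card_pos) (e1.trans e2.symm)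
  refine ⟨fun y hy => ?_, hcls, fun t ht => ?_⟩
  · have hP : ∀ P : Sylow 17 G, Nat.card (P : Subgroup G) = 17 := fun P => by
      rw [card_sylow_subgroup (p := 17) (e := 1) (m := 240) (by rw [h]; norm_num) (by norm_num) P,
        pow_one]
    obtain ⟨P, hPx⟩ := exists_sylow_eq_zpowers hP hx
    obtain ⟨Q, hQy⟩ := exists_sylow_eq_zpowers hP hy
    obtain ⟨g, hg⟩ := MulAction.exists_smul_eq G P Q
    have hzp : zpowers y = (zpowers x).map (MulAut.conj g).toMonoidHom := by
      rw [← hQy, ← hPx, ← hg]; rfl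
    rw [← centralizer_zpowers y, hzp, coe_map]
    have hcm : centralizer ((MulAut.conj g).toMonoidHom '' ((zpowers x : Subgroup G) : Set G)) =
        (centralizer ((zpowers x : Subgroup G) : Set G)).map (MulAut.conj g).toMonoidHom := by
      ext a
      simp only [mem_centralizer_iff, mem_map, Set.forall_mem_image]
      constructor
      · intro ha
        refine ⟨g⁻¹ * a * g, fun b hb => ?_, by simp [mul_assoc]⟩
        have := ha hb
        simp only [MulEquiv.coe_toMonoidHom, MulAut.conj_apply] at this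
        calc b * (g⁻¹ * a * g) = g⁻¹ * (g * b * g⁻¹ * a) * g := by group
          _ = g⁻¹ * (a * (g * b * g⁻¹)) * g := by rw [this]
          _ = g⁻¹ * a * g * b := by group
      · rintro ⟨c, hc, rfl⟩ b hb
        rw [← map_mul, ← map_mul, hc b hb]
    rw [hcm, card_map_of_injective (MulAut.conj g).injective, centralizer_zpowers, hxC]
  · obtain ⟨v, hv, hC⟩ := hf t₀ ht₀
    obtain ⟨P⟩ := (inferInstance : Nonempty (Sylow 2 G))
    have hm := card_sylow_subgroup (p := 2) (e := 4) (m := 255) (by rw [h]; norm_num) (by norm_num) P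
    rw [Sylow.card_eq_multiplicity] at hm
    rw [hm] at hT
    rw [hconj t t₀ ht ht₀]
    obtain ⟨m, hm16⟩ := hT
    have hCv : (Nat.card (centralizer ({t₀} : Set G)) : ℤ) = 16 + v := by
      have h2 : (Nat.card (centralizer ({t₀} : Set G)) : ℤ) ^ 2 = (16 + v) ^ 2 :=
        mul_left_cancel₀ (show (4080 : ℤ) ≠ 0 by norm_num) (by push_cast at hC; linear_combination hC)
      refine (pow_left_inj₀ (by positivity) (by omega) two_ne_zero).mp h2
    rw [hm16] at hCv ⊢
    push_cast at hCv
    omega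

theorem isCyclic_fifteen_aux (h : Nat.card G = 4080) :
    ∀ x : G, orderOf x = 5 → Nat.card (centralizer ({x} : Set G)) = 15 ∧
      Nat.card (normalizer (zpowers x : Set G)) = 30 ∧ Nat.card (Sylow 5 G) = 136 := by
  intro x hx
  have hG := not_comm h
  obtain ⟨-, -, hC2⟩ := card_centralizer h
  have : Fact (Nat.Prime 5) := ⟨by norm_num⟩
  obtain ⟨x₀, j, hmem, hx₀, hN, hC⟩ :=
    BlockDegrees.mem_of_blockBool hG h 5 64 [(51, 2), (136, 2)] (by decide +kernel)
  have h136 : Nat.card (Sylow 5 G) = 136 ∧ j = 2 := by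
    simp only [List.mem_cons, Prod.mk.injEq, List.mem_nil_iff, or_false] at hmem
    refine hmem.resolve_left fun ⟨e1, e2⟩ => ?_
    rw [e1] at hN
    rw [e2] at hC
    obtain ⟨t, ht⟩ := exists_prime_orderOf_dvd_card' (G := centralizer ({x₀} : Set G)) 2
      (hp := ⟨Nat.prime_two⟩) (by omega)
    have h5 : orderOf x₀ ∣ 16 := orderOf_dvd_of_centralizer
      (hC2 (t : G) (by rw [orderOf_coe, ht])) (mem_centralizer_singleton_iff.mp t.2).symm
    rw [hx₀] at h5
    norm_num at h5
  obtain ⟨e1, rfl⟩ := h136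
  rw [e1] at hN
  have hP : ∀ P : Sylow 5 G, Nat.card (P : Subgroup G) = 5 := fun P => by
    rw [card_sylow_subgroup (p := 5) (e := 1) (m := 816) (by rw [h]; norm_num) (by norm_num) P, pow_one]
  obtain ⟨P, hPx⟩ := exists_sylow_eq_zpowers hP hx
  obtain ⟨j, hj1, hj4, hCj, -, -⟩ := exists_card_centralizer_mul hG hx P hPx
  have hNx := card_normalizer_mul_card_sylow P
  rw [hPx, e1, h] at hNx
  rw [hPx] at hCj
  have hN30 : Nat.card (normalizer (zpowers x : Set G)) = 30 := by omega
  rw [hN30] at hCj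
  refine ⟨?_, hN30, e1⟩
  have := Nat.le_of_dvd (by norm_num) hj4
  interval_cases j <;> omega

theorem isCyclic_of_card_fifteen (h : Nat.card G = 4080) {S : Subgroup G} (hS : Nat.card S = 15) :
    ∃ s ∈ S, orderOf s = 15 := by
  have : Fact (Nat.Prime 5) := ⟨by norm_num⟩
  have : Fact (Nat.Prime 3) := ⟨Nat.prime_three⟩
  obtain ⟨a, ha⟩ := exists_prime_orderOf_dvd_card' (G := S) 5 (by rw [hS]; norm_num)
  obtain ⟨b, hb⟩ := exists_prime_orderOf_dvd_card' (G := S) 3 (by rw [hS]; norm_num)
  have ha' : orderOf (a : G) = 5 := by rw [orderOf_coe, ha]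
  obtain ⟨hCa, hNa, -⟩ := isCyclic_fifteen_aux h (a : G) ha'
  have hn : (zpowers a).Normal := by
    apply normal_of_index_eq_minFac_card
    have h1 := (zpowers a).card_mul_index
    rw [Nat.card_zpowers, ha, hS] at h1
    rw [hS, show Nat.minFac 15 = 3 by norm_num]
    omega
  set N := normalizer (zpowers (a : G) : Set G)
  have hbN : (b : G) ∈ N := by
    have hle : S ≤ N := by
      intro g hg
      refine mem_normalizer_iff.mpr fun c => ⟨fun hc => ?_, fun hc => ?_⟩
      · obtain ⟨n, rfl⟩ := mem_zpowers_iff.mp hc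
        obtain ⟨k, hk⟩ := mem_zpowers_iff.mp (hn.conj_mem (a ^ n) (zpow_mem (mem_zpowers a) n) ⟨g, hg⟩)
        exact ⟨k, by have := congrArg Subtype.val hk; simpa using this⟩
      · obtain ⟨n, hn'⟩ := mem_zpowers_iff.mp hc
        obtain ⟨k, hk⟩ := mem_zpowers_iff.mp (hn.conj_mem (a ^ n) (zpow_mem (mem_zpowers a) n) ⟨g, hg⟩⁻¹)
        have h2 := congrArg Subtype.val hk
        simp only [SubgroupClass.coe_zpow, Subgroup.coe_mul, Subgroup.coe_inv, inv_inv, hn'] at h2
        exact ⟨k, by show (a : G) ^ k = c; rw [h2]; group⟩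
    exact hle b.2
  have hCN : centralizer ({(a : G)} : Set G) ≤ N := by
    rw [← centralizer_zpowers]; exact centralizer_le_normalizer _
  have hidx : ((centralizer ({(a : G)} : Set G)).subgroupOf N).index = 2 := by
    have h1 := ((centralizer ({(a : G)} : Set G)).subgroupOf N).card_mul_index
    rw [Nat.card_congr (subgroupOfEquivOfLe hCN).toEquiv, hCa, hNa] at h1
    omega
  have hb3 : (b : G) ^ 3 = 1 := by rw [← hb, ← orderOf_coe, pow_orderOf_eq_one]
  have hbC : (b : G) ∈ centralizer ({(a : G)} : Set G) := by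
    have h2 := sq_mem_of_index_two hidx (⟨(b : G), hbN⟩ : N)
    rw [mem_subgroupOf, SubgroupClass.coe_pow] at h2
    have h4 := mul_mem h2 h2
    rwa [← pow_add, show 2 + 2 = 3 + 1 from rfl, pow_succ, hb3, one_mul] at h4
  refine ⟨(a : G) * b, mul_mem a.2 b.2, ?_⟩
  rw [(show Commute (a : G) b from (mem_centralizer_singleton_iff.mp hbC).symm).orderOf_mul_eq_mul_orderOf_of_coprime
    (by rw [ha', orderOf_coe, hb]; norm_num), ha', orderOf_coe, hb]

theorem sylow_two (h : Nat.card G = 4080) [Fact (Nat.Prime 2)] :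
    Nat.card (Sylow 2 G) = 17 ∧ (∀ T : Sylow 2 G, ∀ a ∈ (T : Subgroup G), a * a = 1) ∧
      (∀ T U : Sylow 2 G, T ≠ U → (T : Subgroup G) ⊓ (U : Subgroup G) = ⊥) ∧
      (∀ t : G, orderOf t = 2 → Nat.card (centralizer ({t} : Set G)) = 16) := by
  classical
  have hG := not_comm h
  obtain ⟨hC17, hcls, hC2⟩ := card_centralizer h
  have : Fact (Nat.Prime 17) := ⟨by norm_num⟩
  have : Fact (Nat.Prime 5) := ⟨by norm_num⟩
  have : Fact (Nat.Prime 3) := ⟨Nat.prime_three⟩
  have hn17 : Nat.card (Sylow 17 G) = 120 := by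
    simpa using mem_of_candBool hG h 17 1 [120] (by decide +kernel)
  have hP17 : ∀ P : Sylow 17 G, Nat.card (P : Subgroup G) = 17 := fun P => by
    rw [card_sylow_subgroup (p := 17) (e := 1) (m := 240) (by rw [h]; norm_num) (by norm_num) P, pow_one]
  have hP5 : ∀ P : Sylow 5 G, Nat.card (P : Subgroup G) = 5 := fun P => by
    rw [card_sylow_subgroup (p := 5) (e := 1) (m := 816) (by rw [h]; norm_num) (by norm_num) P, pow_one]
  have hP3 : ∀ P : Sylow 3 G, Nat.card (P : Subgroup G) = 3 := fun P => by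
    rw [card_sylow_subgroup (p := 3) (e := 1) (m := 1360) (by rw [h]; norm_num) (by norm_num) P, pow_one]
  obtain ⟨x, hx⟩ := exists_prime_orderOf_dvd_card' (G := G) 5 (by rw [h]; norm_num)
  obtain ⟨hCx, -, hn5⟩ := isCyclic_fifteen_aux h x hx
  have hw : ∀ y : G, orderOf y = 5 → ∃ w : G, orderOf w = 3 ∧ w * y = y * w := fun y hy => by
    obtain ⟨w, hw⟩ := exists_prime_orderOf_dvd_card' (G := centralizer ({y} : Set G)) 3
      (by rw [(isCyclic_fifteen_aux h y hy).1]; norm_num)
    exact ⟨w, by rw [orderOf_coe, hw], mem_centralizer_singleton_iff.mp w.2⟩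
  choose w hwo hwc using hw
  -- the order of the centraliser of an element of order three
  have hn3 : Nat.card (Sylow 3 G) = 136 := by
    have hw3 := hwo x hx
    obtain ⟨P, hP⟩ := exists_sylow_eq_zpowers hP3 hw3
    obtain ⟨j, hj1, hj2, hCj, -, -⟩ := exists_card_centralizer_mul hG hw3 P hP
    have hj : j = 2 := by have := Nat.le_of_dvd (by norm_num) hj2; omega
    set C := Nat.card (centralizer ({w x hx} : Set G))
    have hxC : x ∈ centralizer ({w x hx} : Set G) :=
      mem_centralizer_singleton_iff.mpr (hwc x hx).symm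
    have h5 : 5 ∣ C := hx ▸ orderOf_dvd_natCard _ hxC
    have h3 : 3 ∣ C := hw3 ▸ orderOf_dvd_natCard _ (mem_centralizer_self _)
    have hd : C ∣ 4080 := h ▸ card_subgroup_dvd_card _
    have h17 : ¬ 17 ∣ C := fun hd' => by
      obtain ⟨y, hy⟩ := exists_prime_orderOf_dvd_card' (G := centralizer ({w x hx} : Set G)) 17 hd'
      have h1 : orderOf (w x hx) ∣ 17 := orderOf_dvd_of_centralizer
        (hC17 (y : G) (by rw [orderOf_coe, hy])) (mem_centralizer_singleton_iff.mp y.2).symm
      rw [hw3] at h1; norm_num at h1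
    have h2 : ¬ 2 ∣ C := fun hd' => by
      obtain ⟨y, hy⟩ := exists_prime_orderOf_dvd_card' (G := centralizer ({w x hx} : Set G)) 2 hd'
      have h1 : orderOf (w x hx) ∣ 16 := orderOf_dvd_of_centralizer
        (hC2 (y : G) (by rw [orderOf_coe, hy])) (mem_centralizer_singleton_iff.mp y.2).symm
      rw [hw3] at h1; norm_num at h1
    have c2 : Nat.Coprime C 16 := Nat.Coprime.pow_right 4 (Nat.prime_two.coprime_iff_not_dvd.mpr h2).symm
    have c17 : Nat.Coprime C 17 := ((Fact.out : Nat.Prime 17).coprime_iff_not_dvd.mpr h17).symm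
    have hC15 : C = 15 := Nat.dvd_antisymm
      ((c2.mul_right c17).dvd_of_dvd_mul_left (show C ∣ 16 * 17 * 15 from hd))
      (Nat.Coprime.mul_dvd_of_dvd_of_dvd (by norm_num : Nat.Coprime 3 5) h3 h5)
    have hN := card_normalizer_mul_card_sylow P
    rw [h, ← hCj, hj, hC15] at hN
    omega
  -- count
  have c17 := card_orderOf_eq_prime hP17
  rw [hn17] at c17
  have c5 := card_orderOf_eq_prime hP5
  rw [hn5] at c5
  have c3 := card_orderOf_eq_prime hP3
  rw [hn3] at c3
  have c2 : 255 = Nat.card {g : G // orderOf g = 2} := by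
    obtain ⟨t, ht⟩ := exists_prime_orderOf_dvd_card' (G := G) 2 (by rw [h]; norm_num)
    have h1 := card_isConj_class t
    rw [hC2 t ht, h] at h1
    have e : Nat.card {g : G // orderOf g = 2} = Nat.card {g : G // IsConj t g} :=
      Nat.card_congr (Equiv.subtypeEquivRight fun g => ⟨fun hg => hcls t g ht hg, fun hg => by
        obtain ⟨c, hc⟩ := isConj_iff.mp hg
        rw [← hc]
        exact (orderOf_injective (MulAut.conj c).toMonoidHom (MulAut.conj c).injective t).trans ht⟩)
    omega
  have c15 : 1088 ≤ Nat.card {g : G // orderOf g = 15} := by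
    let f : {g : G // orderOf g = 5} × Fin 2 → {g : G // orderOf g = 15} := fun q =>
      ⟨q.1.1 * w q.1.1 q.1.2 ^ ((q.2 : ℕ) + 1), by
        have hc : Commute q.1.1 (w q.1.1 q.1.2 ^ ((q.2 : ℕ) + 1)) :=
          (show Commute (w q.1.1 q.1.2) q.1.1 from hwc _ _).symm.pow_right _
        have ho : orderOf (w q.1.1 q.1.2 ^ ((q.2 : ℕ) + 1)) = 3 := by
          rw [Nat.Coprime.orderOf_pow, hwo]
          rw [hwo]
          obtain ⟨⟨k, hk⟩⟩ := (⟨q.2⟩ : Nonempty (Fin 2))
          rcases (show (q.2 : ℕ) = 0 ∨ (q.2 : ℕ) = 1 by have := q.2.2; omega) with e | e <;> rw [e] <;>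
            norm_num
        rw [hc.orderOf_mul_eq_mul_orderOf_of_coprime (by rw [q.1.2, ho]; norm_num), q.1.2, ho]⟩
    have hpow : ∀ q, (f q : G) ^ 6 = q.1.1 := fun q => by
      have hc : Commute q.1.1 (w q.1.1 q.1.2 ^ ((q.2 : ℕ) + 1)) :=
        (show Commute (w q.1.1 q.1.2) q.1.1 from hwc _ _).symm.pow_right _
      show (q.1.1 * _) ^ 6 = q.1.1
      rw [hc.mul_pow, ← pow_mul, show ((q.2 : ℕ) + 1) * 6 = 3 * (2 * ((q.2 : ℕ) + 1)) by ring, pow_mul,
        show w q.1.1 q.1.2 ^ 3 = 1 by rw [← hwo q.1.1 q.1.2, pow_orderOf_eq_one], one_pow, mul_one,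
        pow_eq_pow_mod 6 (show q.1.1 ^ 5 = 1 by
          have hq := pow_orderOf_eq_one q.1.1; rwa [q.1.2] at hq), pow_one]
    have hf : Function.Injective f := by
      rintro ⟨⟨a, ha⟩, i⟩ ⟨⟨b, hb⟩, j⟩ he
      have e1 : a = b := by
        have := hpow (⟨a, ha⟩, i)
        rw [he, hpow] at this
        exact this.symm
      subst e1
      have e2 : w a ha ^ ((i : ℕ) + 1) = w a ha ^ ((j : ℕ) + 1) :=
        mul_left_cancel (congrArg Subtype.val he)
      rw [pow_eq_pow_iff_modEq, hwo] at e2
      unfold Nat.ModEq at e2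
      refine Prod.ext rfl (Fin.ext ?_)
      have := i.isLt; have := j.isLt
      simp only at e2 ⊢
      omega
    have := Nat.card_le_card_of_injective f hf
    rw [Nat.card_prod, c5, Nat.card_fin] at this
    omega
  have hexp : ∀ T : Sylow 2 G, ∀ a ∈ (T : Subgroup G), a * a = 1 := by
    intro T a haT
    by_contra haa
    have hd : orderOf a ∣ 2 ^ 4 := by
      have := orderOf_dvd_natCard _ haT
      rwa [card_sylow_subgroup (p := 2) (e := 4) (m := 255) (by rw [h]; norm_num) (by norm_num) T] at this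
    obtain ⟨k, hk, hak⟩ := (Nat.dvd_prime_pow Nat.prime_two).mp hd
    have ha4 : 4 ∣ orderOf a := by
      rw [hak]
      refine (show 4 = 2 ^ 2 from rfl) ▸ pow_dvd_pow 2 ?_
      by_contra hle
      apply haa
      rw [← pow_two]
      exact orderOf_dvd_iff_pow_eq_one.mp (hak ▸ pow_dvd_pow 2 (show k ≤ 1 by omega))
    have : Fintype G := Fintype.ofFinite G
    let V : Finset ℕ := {1, 2, 3, 5, 15, 17}
    have hdisj : ∀ k : ℕ, (Finset.univ.filter fun g : G => orderOf g = k).card =
        Nat.card {g : G // orderOf g = k} := fun k => by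
      rw [Nat.card_eq_fintype_card, Fintype.card_subtype]
    have h1 : (V.biUnion fun k => Finset.univ.filter fun g : G => orderOf g = k).card =
        ∑ k ∈ V, (Finset.univ.filter fun g : G => orderOf g = k).card :=
      Finset.card_biUnion fun k _ l _ hkl => Finset.disjoint_left.mpr fun g hg hg' =>
        hkl ((Finset.mem_filter.mp hg).2.symm.trans (Finset.mem_filter.mp hg').2)
    have hlt : (V.biUnion fun k => Finset.univ.filter fun g : G => orderOf g = k).card < Fintype.card G := by
      refine Finset.card_lt_univ_of_notMem (x := a) fun hm => ?_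
      obtain ⟨l, hl, hg⟩ := Finset.mem_biUnion.mp hm
      rw [(Finset.mem_filter.mp hg).2] at ha4
      simp only [V, Finset.mem_insert, Finset.mem_singleton] at hl
      omega
    have hone : 1 ≤ (Finset.univ.filter fun g : G => orderOf g = 1).card :=
      Finset.card_pos.mpr ⟨1, by simp⟩
    simp only [V] at h1 hlt
    rw [h1, Finset.sum_insert (by decide), Finset.sum_insert (by decide), Finset.sum_insert (by decide),
      Finset.sum_insert (by decide), Finset.sum_insert (by decide), Finset.sum_singleton,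
      ← Nat.card_eq_fintype_card, h, hdisj 2, hdisj 3, hdisj 5, hdisj 15, hdisj 17, c3, c5, c17,
      ← c2] at hlt
    omega
  have hTI : ∀ T U : Sylow 2 G, T ≠ U → (T : Subgroup G) ⊓ (U : Subgroup G) = ⊥ := by
    intro T U hTU
    rw [eq_bot_iff]
    intro a ⟨haT, haU⟩
    rw [mem_bot]
    by_contra ha1
    have ho : orderOf a = 2 := orderOf_eq_prime (by rw [pow_two]; exact hexp T a haT) ha1
    have hle : ∀ R : Sylow 2 G, a ∈ (R : Subgroup G) →
        (R : Subgroup G) = centralizer ({a} : Set G) := fun R haR => by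
      refine eq_of_le_of_card_ge (fun g hg => mem_centralizer_singleton_iff.mpr ?_) ?_
      · have e2 := inv_eq_of_mul_eq_one_right (hexp R _ (mul_mem hg haR))
        rw [mul_inv_rev, inv_eq_of_mul_eq_one_right (hexp R g hg),
          inv_eq_of_mul_eq_one_right (hexp R a haR)] at e2
        exact e2.symm
      · rw [hC2 a ho, card_sylow_subgroup (p := 2) (e := 4) (m := 255) (by rw [h]; norm_num)
          (by norm_num) R]
        norm_num
    exact hTU (Sylow.ext ((hle T haT).trans (hle U haU).symm))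
  refine ⟨?_, hexp, hTI, hC2⟩
  have hT : ∀ T : Sylow 2 G, Nat.card (T : Subgroup G) = 16 :=
    card_sylow_subgroup (p := 2) (e := 4) (m := 255) (by rw [h]; norm_num) (by norm_num)
  have hcnt := TwoPoint.card_nontrivial_pElements hT hTI
  have e : Nat.card {g : G // g ≠ 1 ∧ ∃ k, g ^ 2 ^ k = 1} = Nat.card {g : G // orderOf g = 2} := by
    refine Nat.card_congr (Equiv.subtypeEquivRight fun g => ⟨fun ⟨hg1, k, hk⟩ => ?_, fun hg => ?_⟩)
    · obtain ⟨m, -, hm⟩ := (Nat.dvd_prime_pow Nat.prime_two).mp (orderOf_dvd_of_pow_eq_one hk)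
      obtain ⟨T, hTg⟩ := (IsPGroup.of_card (n := m) (show Nat.card (zpowers g) = 2 ^ m by
        rw [Nat.card_zpowers, hm])).exists_le_sylow
      exact orderOf_eq_prime (by rw [pow_two]; exact hexp T g (hTg (mem_zpowers g))) hg1
    · exact ⟨fun e => by rw [e, orderOf_one] at hg; omega, 1, by rw [pow_one, ← hg, pow_orderOf_eq_one]⟩
  omega

end Cfsg.Agent.SmallOrders.S4080
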