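-- A simple group of order 4080 acting on its seventeen Sylow 2-subgroups.
--
-- * `exists_injective_std`: its image is a fixed permutation group of degree 17
import Cfsg.Agent.Lib.SmallOrders.Order4080.Local
import Cfsg.Agent.Lib.SmallOrders.TwoPoint.Coords

set_option autoImplicit false

namespace Cfsg.Agent.SmallOrders.S4080

open Subgroup MulAction

/-- translations of the field of order 16, with `16` at infinity -/
def addTab : List (List ℕ) :=
  [[0, 1, 2, 3, 4, 5, 6, 7, 8, 9, 10, 11, 12, 13, 14, 15, 16],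
   [1, 0, 3, 2, 5, 4, 7, 6, 9, 8, 11, 10, 13, 12, 15, 14, 16],
   [2, 3, 0, 1, 6, 7, 4, 5, 10, 11, 8, 9, 14, 15, 12, 13, 16],
   [3, 2, 1, 0, 7, 6, 5, 4, 11, 10, 9, 8, 15, 14, 13, 12, 16],
   [4, 5, 6, 7, 0, 1, 2, 3, 12, 13, 14, 15, 8, 9, 10, 11, 16],
   [5, 4, 7, 6, 1, 0, 3, 2, 13, 12, 15, 14, 9, 8, 11, 10, 16],
   [6, 7, 4, 5, 2, 3, 0, 1, 14, 15, 12, 13, 10, 11, 8, 9, 16],
   [7, 6, 5, 4, 3, 2, 1, 0, 15, 14, 13, 12, 11, 10, 9, 8, 16],
   [8, 9, 10, 11, 12, 13, 14, 15, 0, 1, 2, 3, 4, 5, 6, 7, 16],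
   [9, 8, 11, 10, 13, 12, 15, 14, 1, 0, 3, 2, 5, 4, 7, 6, 16],
   [10, 11, 8, 9, 14, 15, 12, 13, 2, 3, 0, 1, 6, 7, 4, 5, 16],
   [11, 10, 9, 8, 15, 14, 13, 12, 3, 2, 1, 0, 7, 6, 5, 4, 16],
   [12, 13, 14, 15, 8, 9, 10, 11, 4, 5, 6, 7, 0, 1, 2, 3, 16],
   [13, 12, 15, 14, 9, 8, 11, 10, 5, 4, 7, 6, 1, 0, 3, 2, 16],
   [14, 15, 12, 13, 10, 11, 8, 9, 6, 7, 4, 5, 2, 3, 0, 1, 16],
   [15, 14, 13, 12, 11, 10, 9, 8, 7, 6, 5, 4, 3, 2, 1, 0, 16]]

/-- multiplications by the powers of a root of `x ^ 4 = x + 1` -/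
def mulTab : List (List ℕ) :=
  [[0, 1, 2, 3, 4, 5, 6, 7, 8, 9, 10, 11, 12, 13, 14, 15, 16],
   [0, 2, 4, 6, 8, 10, 12, 14, 3, 1, 7, 5, 11, 9, 15, 13, 16],
   [0, 4, 8, 12, 3, 7, 11, 15, 6, 2, 14, 10, 5, 1, 13, 9, 16],
   [0, 8, 3, 11, 6, 14, 5, 13, 12, 4, 15, 7, 10, 2, 9, 1, 16],
   [0, 3, 6, 5, 12, 15, 10, 9, 11, 8, 13, 14, 7, 4, 1, 2, 16],
   [0, 6, 12, 10, 11, 13, 7, 1, 5, 3, 9, 15, 14, 8, 2, 4, 16],
   [0, 12, 11, 7, 5, 9, 14, 2, 10, 6, 1, 13, 15, 3, 4, 8, 16],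
   [0, 11, 5, 14, 10, 1, 15, 4, 7, 12, 2, 9, 13, 6, 8, 3, 16],
   [0, 5, 10, 15, 7, 2, 13, 8, 14, 11, 4, 1, 9, 12, 3, 6, 16],
   [0, 10, 7, 13, 14, 4, 9, 3, 15, 5, 8, 2, 1, 11, 6, 12, 16],
   [0, 7, 14, 9, 15, 8, 1, 6, 13, 10, 3, 4, 2, 5, 12, 11, 16],
   [0, 14, 15, 1, 13, 3, 2, 12, 9, 7, 6, 8, 4, 10, 11, 5, 16],
   [0, 15, 13, 2, 9, 6, 4, 11, 1, 14, 12, 3, 8, 7, 5, 10, 16],
   [0, 13, 9, 4, 1, 12, 8, 5, 2, 15, 11, 6, 3, 14, 10, 7, 16],
   [0, 9, 1, 8, 2, 11, 3, 10, 4, 13, 5, 12, 6, 15, 7, 14, 16]]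

/-- the involution -/
def stdTab : List ℕ := [16, 1, 9, 14, 13, 11, 7, 6, 15, 2, 12, 5, 10, 4, 3, 8, 0]

theorem check : TwoPoint.checkBool 16 15 addTab mulTab [1] stdTab = true := by decide +kernel

/-- multiplication by a root of `x ^ 4 = c` -/
def step (c i : ℕ) : ℕ := TwoPoint.look addTab (2 * i % 16) (if 8 ≤ i then c else 0)

theorem tab_spec : ∀ i, i < 16 → ∀ j, j < 16 →
    TwoPoint.look addTab i j < 16 ∧ TwoPoint.look addTab i j % 2 = (i % 2 + j % 2) % 2 ∧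
      TwoPoint.look addTab i j / 2 % 2 = (i / 2 % 2 + j / 2 % 2) % 2 ∧
      TwoPoint.look addTab i j / 4 % 2 = (i / 4 % 2 + j / 4 % 2) % 2 ∧
      TwoPoint.look addTab i j / 8 = (i / 8 + j / 8) % 2 ∧
      (TwoPoint.look addTab i j = 0 → i = j) := by decide +kernel

theorem tab_below : ∀ m, m < 4 → ∀ i, i < 2 ^ m → ∀ j, j < 2 ^ m →
    TwoPoint.look addTab i j < 2 ^ m ∧ TwoPoint.look addTab i (2 ^ m) = i + 2 ^ m := by
  decide +kernel

theorem tab_top : ∀ k, k < 16 → k ≠ 0 →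
    ∃ m, m < 4 ∧ 2 ^ m ≤ k ∧ k < 2 ^ (m + 1) ∧
      TwoPoint.look addTab (k - 2 ^ m) (2 ^ m) = k := by
  decide +kernel

theorem step_spec : ∀ c, c < 16 →
    ((List.range 15).map fun n => (step c)^[n] 1).Nodup → c = 3 ∨ c = 9 := by decide +kernel

theorem mul_spec : ∀ i, i < 16 →
    TwoPoint.look mulTab 1 i < 16 ∧ TwoPoint.look mulTab 1 i = step 3 i := by decide +kernel

variable {G : Type*} [Group G]

/-- the `n`-th conjugate -/
def cj (x e : G) (n : ℕ) : G := x ^ n * e * (x ^ n)⁻¹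

/-- the product of the `cj x e n` for the binary digits `n` of `i` -/
def word (x e : G) (i : ℕ) : G :=
  cj x e 0 ^ (i % 2) * cj x e 1 ^ (i / 2 % 2) * cj x e 2 ^ (i / 4 % 2) * cj x e 3 ^ (i / 8)

theorem conj_cj (x e : G) (n : ℕ) : x * cj x e n * x⁻¹ = cj x e (n + 1) := by
  simp only [cj, pow_succ', mul_inv_rev, mul_assoc]

theorem word_one (x e : G) : word x e 1 = e := by simp [word, cj]

section words

variable {P : Subgroup G} (hexp : ∀ a ∈ P, a * a = 1) {x e : G} (hcP : ∀ n, cj x e n ∈ P)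

include hexp hcP

theorem word_mem (i : ℕ) : word x e i ∈ P :=
  mul_mem (mul_mem (mul_mem (pow_mem (hcP 0) _) (pow_mem (hcP 1) _)) (pow_mem (hcP 2) _))
    (pow_mem (hcP 3) _)

omit hcP in
theorem comm_of_exp {a b : G} (ha : a ∈ P) (hb : b ∈ P) : a * b = b * a := by
  have e2 := inv_eq_of_mul_eq_one_right (hexp _ (mul_mem ha hb))
  rw [mul_inv_rev, inv_eq_of_mul_eq_one_right (hexp a ha), inv_eq_of_mul_eq_one_right (hexp b hb)] at e2
  exact e2.symm

theorem word_mul {i j : ℕ} (hi : i < 16) (hj : j < 16) :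
    word x e i * word x e j = word x e (TwoPoint.look addTab i j) := by
  obtain ⟨-, h0, h1, h2, h3, -⟩ := tab_spec i hi j hj
  have pp : ∀ (n : ℕ) (a b : ℕ), cj x e n ^ ((a + b) % 2) = cj x e n ^ a * cj x e n ^ b := fun n a b => by
    rw [← pow_eq_pow_mod _ (by rw [pow_two]; exact hexp _ (hcP n)), pow_add]
  have sw : ∀ {a b c d : G}, b ∈ P → c ∈ P → a * b * (c * d) = a * c * (b * d) := fun {a b c d} hb hc => by
    rw [mul_assoc a b, ← mul_assoc b c, comm_of_exp hexp hb hc, mul_assoc c b, ← mul_assoc a c]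
  simp only [word, h0, h1, h2, h3, pp]
  set A := cj x e 0 ^ (i % 2) with hA
  set B := cj x e 1 ^ (i / 2 % 2) with hB
  set C := cj x e 2 ^ (i / 4 % 2) with hC
  set D := cj x e 3 ^ (i / 8) with hD
  set A' := cj x e 0 ^ (j % 2)
  set B' := cj x e 1 ^ (j / 2 % 2)
  set C' := cj x e 2 ^ (j / 4 % 2)
  set D' := cj x e 3 ^ (j / 8)
  have hA' : A' ∈ P := pow_mem (hcP 0) _
  have hB' : B' ∈ P := pow_mem (hcP 1) _
  have hC' : C' ∈ P := pow_mem (hcP 2) _
  rw [sw (b := D) (pow_mem (hcP 3) _) (mul_mem (mul_mem hA' hB') hC'),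
    sw (b := C) (pow_mem (hcP 2) _) (mul_mem hA' hB'), sw (b := B) (pow_mem (hcP 1) _) hA']

theorem conj_word {c : ℕ} (hc : c < 16) (h4 : cj x e 4 = word x e c) {i : ℕ} (hi : i < 16) :
    step c i < 16 ∧ x * word x e i * x⁻¹ = word x e (step c i) := by
  have hlt : (if 8 ≤ i then c else 0) < 16 := by split <;> omega
  refine ⟨(tab_spec _ (Nat.mod_lt _ (by norm_num)) _ hlt).1, ?_⟩
  have e0 : ∀ a b : G, x * (a * b) * x⁻¹ = (x * a * x⁻¹) * (x * b * x⁻¹) := fun a b => by group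
  rw [step, ← word_mul hexp hcP (Nat.mod_lt _ (by norm_num)) hlt, word, e0, e0, e0, ← conj_pow,
    ← conj_pow, ← conj_pow, ← conj_pow, conj_cj, conj_cj, conj_cj, conj_cj, h4]
  congr 1
  · simp only [word, show 2 * i % 16 % 2 = 0 by omega, show 2 * i % 16 / 2 % 2 = i % 2 by omega,
      show 2 * i % 16 / 4 % 2 = i / 2 % 2 by omega, show 2 * i % 16 / 8 = i / 4 % 2 by omega,
      pow_zero, one_mul]
  · split_ifs with h8
    · rw [show i / 8 = 1 by omega, pow_one]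
    · rw [show i / 8 = 0 by omega, pow_zero]
      simp [word]

theorem word_injective (hdist : ∀ a, a < 15 → ∀ b, b < 15 → cj x e a = cj x e b → a = b)
    {i j : ℕ} (hi : i < 16) (hj : j < 16) (hij : word x e i = word x e j) : i = j := by
  obtain ⟨hlt, -, -, -, -, h0⟩ := tab_spec i hi j hj
  apply h0
  by_contra hne
  have h1 := word_mul hexp hcP hi hj
  rw [hij, hexp _ (word_mem hexp hcP j)] at h1
  obtain ⟨m, hm, hmk, hkm, hk⟩ := tab_top _ hlt hne
  rw [pow_succ] at hkm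
  set l := TwoPoint.look addTab i j - 2 ^ m with hl
  have h2 : 2 ^ m ≤ 8 := by
    calc 2 ^ m ≤ 2 ^ 3 := Nat.pow_le_pow_right (by norm_num) (by omega)
      _ = 8 := by norm_num
  have hl' : word x e l = word x e (2 ^ m) := by
    have h3 := word_mul hexp hcP (show l < 16 by omega) (show 2 ^ m < 16 by omega)
    rw [hk, ← h1] at h3
    exact (eq_inv_of_mul_eq_one_left h3).trans
      (inv_eq_of_mul_eq_one_right (hexp _ (word_mem hexp hcP _)))
  have hclosed : ∀ a, a < 2 ^ m → ∃ b, b < 2 ^ m ∧ x * word x e a * x⁻¹ = word x e b := by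
    intro a ha
    have e0 : ∀ u v : G, x * (u * v) * x⁻¹ = (x * u * x⁻¹) * (x * v * x⁻¹) := fun u v => by group
    have h5 : x * word x e a * x⁻¹ = word x e (2 * a) := by
      rw [word, e0, e0, e0, ← conj_pow, ← conj_pow, ← conj_pow, ← conj_pow, conj_cj, conj_cj,
        conj_cj, conj_cj, show a / 8 = 0 by omega, pow_zero, mul_one]
      simp only [word, show 2 * a % 2 = 0 by omega, show 2 * a / 2 % 2 = a % 2 by omega,
        show 2 * a / 4 % 2 = a / 2 % 2 by omega, show 2 * a / 8 = a / 4 % 2 by omega, pow_zero,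
        one_mul]
    rw [h5]
    by_cases h6 : 2 * a < 2 ^ m
    · exact ⟨_, h6, rfl⟩
    · obtain ⟨h7, -⟩ := tab_below m hm (2 * a - 2 ^ m) (by omega) l (by omega)
      obtain ⟨-, h8⟩ := tab_below m hm (2 * a - 2 ^ m) (by omega) 0 (by omega)
      refine ⟨_, h7, ?_⟩
      have h9 := word_mul hexp hcP (show 2 * a - 2 ^ m < 16 by omega) (show 2 ^ m < 16 by omega)
      rw [h8, Nat.sub_add_cancel (by omega)] at h9
      rw [← h9, ← word_mul hexp hcP (show 2 * a - 2 ^ m < 16 by omega) (show l < 16 by omega), hl']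
  have hall : ∀ n, ∃ b, b < 2 ^ m ∧ cj x e n = word x e b := by
    intro n
    induction n with
    | zero =>
      rcases Nat.eq_zero_or_pos m with rfl | hm0
      · refine ⟨0, by norm_num, ?_⟩
        have : l = 0 := by omega
        rw [this] at hl'
        rw [hl', pow_zero, word_one]
        simp [cj]
      · exact ⟨1, Nat.one_lt_two_pow (by omega), by rw [word_one]; simp [cj]⟩
    | succ n ih =>
      obtain ⟨b, hb, hb'⟩ := ih
      obtain ⟨b', hb2, hb3⟩ := hclosed b hb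
      exact ⟨b', hb2, by rw [← conj_cj, hb', hb3]⟩
  choose f hf hf' using hall
  have := Fintype.card_le_of_injective (fun n : Fin 15 => (⟨f n, lt_of_lt_of_le (hf n) h2⟩ : Fin 8))
    fun a b hab => Fin.ext (hdist a a.2 b b.2 (by
      rw [hf' a, hf' b, show f a = f b from congrArg Fin.val hab]))
  simp at this

end words

variable [Finite G] [IsSimpleGroup G]

theorem exists_injective_std (h : Nat.card G = 4080) :
    ∃ φ : G →* Equiv.Perm (Fin (16 + 1)), Function.Injective φ ∧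
      φ.range = TwoPoint.stdGroup 16 15 addTab mulTab stdTab := by
  classical
  have : Fact (Nat.Prime 2) := ⟨Nat.prime_two⟩
  obtain ⟨hn', hexp, hTI, hC⟩ := sylow_two h
  have : Fintype (Sylow 2 G) := Fintype.ofFinite _
  have hn : Fintype.card (Sylow 2 G) = 16 + 1 := by rw [← Nat.card_eq_fintype_card, hn']
  have hTc : ∀ T : Sylow 2 G, Nat.card (T : Subgroup G) = 16 :=
    card_sylow_subgroup (p := 2) (e := 4) (m := 255) (by rw [h]; norm_num) (by norm_num)
  obtain ⟨hfaith, P, Q, S, hQP, hPo, hfree, hreg, hS, hSc, hSP, -⟩ :=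
    TwoPoint.exists_frame (q := 16) (r := 15) (by norm_num) hn hTc hTI (by rw [h])
  obtain ⟨e', he'⟩ := exists_prime_orderOf_dvd_card' (G := (P : Subgroup G)) 2 (by rw [hTc]; norm_num)
  set e : G := (e' : G) with hedef
  have heP : e ∈ (P : Subgroup G) := e'.2
  have heo : orderOf e = 2 := by rw [hedef, Subgroup.orderOf_coe, he']
  have he1 : e ≠ 1 := fun h1 => by rw [h1, orderOf_one] at heo; omega
  have hcP : ∀ x ∈ S, ∀ n, cj x e n ∈ (P : Subgroup G) := fun x hx n => hSP _ (pow_mem hx n) e heP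
  -- the fifteen conjugates are distinct
  have hdist : ∀ x ∈ S, orderOf x = 15 → ∀ a, a < 15 → ∀ b, b < 15 → cj x e a = cj x e b → a = b := by
    intro x hx hxo a ha b hb hab
    wlog hle : a ≤ b generalizing a b
    · exact (this b hb a ha hab.symm (by omega)).symm
    have h1 : x ^ (b - a) * e = e * x ^ (b - a) := by
      rw [← mul_inv_eq_iff_eq_mul]
      have h2 : cj x e b = x ^ a * (x ^ (b - a) * e * (x ^ (b - a))⁻¹) * (x ^ a)⁻¹ := by
        rw [cj, show b = a + (b - a) by omega, pow_add, Nat.add_sub_cancel_left]; group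
      rw [cj] at hab
      rw [h2] at hab
      exact (mul_left_cancel (mul_right_cancel hab)).symm
    have h16 : orderOf (x ^ (b - a)) ∣ 16 := orderOf_dvd_of_centralizer (hC e heo) h1
    have h15 : orderOf (x ^ (b - a)) ∣ 15 := hxo ▸ orderOf_pow_dvd _
    have h0 : x ^ (b - a) = 1 := orderOf_eq_one_iff.mp (Nat.dvd_one.mp (Nat.dvd_gcd h16 h15))
    rw [← orderOf_dvd_iff_pow_eq_one, hxo] at h0
    have := Nat.eq_zero_of_dvd_of_lt h0 (by omega)
    omega
  -- normalise the generator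
  obtain ⟨s, hs, hso, hrel⟩ : ∃ s ∈ S, orderOf s = 15 ∧ cj s e 4 = word s e 3 := by
    obtain ⟨x, hx, hxo⟩ := isCyclic_of_card_fifteen h hSc
    have hinj := fun {i j} => word_injective (i := i) (j := j) (hexp P) (hcP x hx) (hdist x hx hxo)
    have : Fintype (P : Subgroup G) := Fintype.ofFinite _
    let w : Fin 16 → (P : Subgroup G) := fun i => ⟨word x e i, word_mem (hexp P) (hcP x hx) i⟩
    have hw : Function.Bijective w := by
      refine (Fintype.bijective_iff_injective_and_card w).mpr ⟨fun a b hab => Fin.ext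
        (hinj a.2 b.2 (congrArg Subtype.val hab)), ?_⟩
      rw [Fintype.card_fin, ← Nat.card_eq_fintype_card, hTc]
    obtain ⟨⟨c, hc⟩, hk⟩ := hw.2 ⟨_, hcP x hx 4⟩
    have h4 : cj x e 4 = word x e c := (congrArg Subtype.val hk).symm
    have horb : ∀ n, (step c)^[n] 1 < 16 ∧ cj x e n = word x e ((step c)^[n] 1) := by
      intro n
      induction n with
      | zero => exact ⟨by norm_num, by rw [Function.iterate_zero_apply, word_one]; simp [cj]⟩
      | succ n ih =>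
        obtain ⟨h1, h2⟩ := conj_word (hexp P) (hcP x hx) hc h4 ih.1
        rw [Function.iterate_succ_apply']
        exact ⟨h1, by rw [← conj_cj, ih.2, h2]⟩
    rcases step_spec c hc (List.Nodup.map_on (fun a ha b hb hab => hdist x hx hxo a (List.mem_range.mp ha)
      b (List.mem_range.mp hb) (by rw [(horb a).2, (horb b).2, hab])) List.nodup_range) with rfl | rfl
    · exact ⟨x, hx, hxo, h4⟩
    · refine ⟨x⁻¹, inv_mem hx, by rw [orderOf_inv, hxo], ?_⟩
      have hu : cj x⁻¹ e 1 ∈ (P : Subgroup G) := hcP _ (inv_mem hx) 1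
      have h5 : e = cj x⁻¹ e 4 * cj x⁻¹ e 1 := by
        calc e = x⁻¹ ^ 4 * cj x e 4 * (x⁻¹ ^ 4)⁻¹ := by simp only [cj]; group
          _ = x⁻¹ ^ 4 * (e * cj x e 3) * (x⁻¹ ^ 4)⁻¹ := by rw [h4]; simp [word, cj]
          _ = _ := by simp only [cj]; group
      calc cj x⁻¹ e 4 = cj x⁻¹ e 4 * cj x⁻¹ e 1 * cj x⁻¹ e 1 := by
            rw [mul_assoc, hexp P _ hu, mul_one]
        _ = word x⁻¹ e 3 := by rw [← h5]; simp [word, cj]
  have hwP := word_mem (hexp P) (hcP s hs)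
  have hz : zpowers s = S := eq_of_le_of_card_ge (zpowers_le.mpr hs) (by rw [Nat.card_zpowers, hso, hSc])
  refine TwoPoint.exists_injective_std_of_action addTab mulTab [1] stdTab check hn hfaith P Q hQP
    (word s e) s (fun i _ => hPo _ (hwP i)) (by simp [word]) ?_ ?_ ((hS s).mp hs).1 ((hS s).mp hs).2
    ((congrArg (s ^ ·) hso).symm.trans (pow_orderOf_eq_one s)) ?_
    (fun g hgP hgQ => by rw [hz, hS]; exact ⟨hgP, hgQ⟩) ?_
  · intro i hi j hj hij
    exact word_injective (hexp P) (hcP s hs) (hdist s hs hso) hi hj (inv_mul_eq_one.mp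
      (hfree _ (mul_mem (inv_mem (hwP i)) (hwP j)) Q hQP
        (by rw [mul_smul, ← hij, inv_smul_smul])))
  · intro i hi j hj
    exact ⟨(tab_spec i hi j hj).1, word_mul (hexp P) (hcP s hs) hi hj⟩
  · intro i hi
    obtain ⟨hlt, he⟩ := mul_spec i hi
    exact ⟨hlt, by rw [he]; exact (conj_word (hexp P) (hcP s hs) (by norm_num) hrel hi).2⟩
  · refine TwoPoint.exists_involution_swap hfaith (by rw [h]; norm_num) fun R hR => ?_
    obtain ⟨g, hg, hgQ⟩ := hreg R hR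
    exact ⟨g, hPo g hg, hgQ⟩

theorem mulEquiv {H : Type*} [Group H] [Finite H] [IsSimpleGroup H] (h : Nat.card G = 4080)
    (hH : Nat.card H = 4080) : Nonempty (G ≃* H) :=
  TwoPoint.mulEquiv_of_injective_std (exists_injective_std h) (exists_injective_std hH)

end Cfsg.Agent.SmallOrders.S4080
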